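import Groth.Agent.Lib.CurvePsi
import Groth.Agent.Lib.CurveSlope
import Groth.Agent.KFlatLib.Scheme.ProjLocFree
import Groth.Agent.QCoh.PushLin
import Groth.Agent.SiteBase.ModGroth
import Groth.Agent.PicClLib.Basic

/-!
# Degrees of pullbacks to curves finite over a curve
-/

set_option linter.style.haveILetI false
set_option linter.unusedSectionVars false
set_option backward.isDefEq.respectTransparency false
set_option backward.isDefEq.respectTransparency.types false

universe u

open CategoryTheory CategoryTheory.Limits AlgebraicGeometry TopologicalSpace Opposite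

namespace Groth.Agent.VarNef31

variable {X : Scheme.{u}}

/-- An additive function killing skyscrapers is a multiple of the generic rank on an integral curve. -/
theorem psi_eq_rk_mul [IsNoetherian X] [IsIntegral X] (ψ : CurvePsi.Psi X)
    (hdim : topologicalKrullDim X ≤ 1) {F : X.Modules} (hF : Coh.IsCoh F) :
    ψ.toFun F = CurveBundle.rk F * ψ.toFun (Coh.structureModule X) := by
  letI := (CurveBundle.isField_stalk_generic (X := X)).toField
  haveI : Module.Free (X.presheaf.stalk (genericPoint X)) (F.presheaf.stalk (genericPoint X)) :=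
    Module.Free.of_divisionRing _ _
  obtain ⟨U, m, hηU, ⟨e⟩⟩ := QCoh.exists_free_nhd_of_free_stalk (QCoh.isCoh_iff_isFP.1 hF) (genericPoint X)
  obtain ⟨_, ⟨V, hV, rfl⟩, hηV, hle⟩ := X.isBasis_affineOpens.exists_subset_of_mem_open hηU U.2
  obtain ⟨l⟩ := QCoh.free_sections hV hle e
  have hm : CurveBundle.rk F = m := QCoh.finrank_stalk_of_freeChart hV hF.1 l hηV
  have hO : Coh.IsCoh (Coh.structureModule X) := QCoh.isCoh_structureModule'
  obtain ⟨hc1, hb⟩ := ψ.biproduct_eq hO m
  let R := Scheme.Modules.restrictFunctorIsoPullback U.ι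
  have φ : Nonempty (F.restrict U.ι ≅
      (⨁ fun _ : ULift.{u} (Fin m) => Coh.structureModule X).restrict U.ι) := by
    obtain ⟨eO⟩ := PicClLib.nonempty_pullback_structureModule U.ι
    exact ⟨e ≪≫ Sigma.whiskerEquiv (f := fun _ : Fin m => _)
        (g := fun _ : ULift.{u} (Fin m) => (Coh.structureModule X).restrict U.ι)
        Equiv.ulift.symm (fun _ => R.app _ ≪≫ eO) ≪≫
        (PreservesCoproduct.iso (Scheme.Modules.restrictFunctor U.ι) _).symm ≪≫
        (Scheme.Modules.restrictFunctor U.ι).mapIso (biproduct.isoCoproduct _).symm⟩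
  rw [ψ.eq_of_iso_on U hF hc1 φ.some fun x hxU hx => ?_, hb, hm]
  refine absurd (CurvePsi.isClosed_of_dim_le_one hdim (genericPoint_specializes x) ?_) hx
  rintro rfl
  exact hxU hηU

section Field

variable (k : Type u) [Field k]

/-- The cohomology dimensions are unchanged by push forward along an affine morphism. -/
theorem finrank_HH_push {D S : Scheme.{u}} [D.Over (Spec (CommRingCat.of k))]
    [S.Over (Spec (CommRingCat.of k))] (g : D ⟶ S) [IsAffineHom g]
    (hg : g ≫ (S ↘ Spec (CommRingCat.of k)) = D ↘ Spec (CommRingCat.of k))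
    {M : D.Modules} (hM : Coh.IsQCoh M) (i : ℕ) :
    Module.finrank k (Coh.HH D M i) = Module.finrank k (Coh.HH S ((Coh.push g).obj M) i) := by
  obtain ⟨e⟩ := QCoh.HH_push_linear g (Coh.toGlobal (S ↘ Spec (CommRingCat.of k)))
    (Coh.toGlobal (D ↘ Spec (CommRingCat.of k))) (fun a => by
      rw [← hg]
      show ((g ≫ (S ↘ Spec (CommRingCat.of k))).appTop) _ = _
      rw [Scheme.Hom.comp_appTop]
      rfl) hM i
  exact e.finrank_eq

theorem euler_push {D S : Scheme.{u}} [D.Over (Spec (CommRingCat.of k))]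
    [S.Over (Spec (CommRingCat.of k))] (g : D ⟶ S) [IsAffineHom g]
    (hg : g ≫ (S ↘ Spec (CommRingCat.of k)) = D ↘ Spec (CommRingCat.of k))
    {M : D.Modules} (hM : Coh.IsQCoh M) :
    Curv2.euler k D M = Curv2.euler k S ((Coh.push g).obj M) := by
  unfold Curv2.euler
  exact finsum_congr fun i => by rw [finrank_HH_push k g hg hM i]

/-- The projection formula in degree zero. -/
theorem nonempty_push_tensor {D S : Scheme.{u}} (g : D ⟶ S) {E : S.Modules} (hE : FlatMod.IsFinLocFree E) :
    Nonempty ((DCoh.tensorBi.obj E).obj ((Coh.push g).obj (Coh.structureModule D)) ≅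
      (Coh.push g).obj ((Scheme.Modules.pullback g).obj E)) := by
  obtain ⟨e⟩ := KFlatLib.nonempty_rpush_tensor_finLocFree g (Coh.structureModule D) E hE 0
  let z := (Coh.push g).rightDerivedZeroIsoSelf
  exact ⟨(DCoh.tensorBi.obj E).mapIso (z.app (Coh.structureModule D)).symm ≪≫ e ≪≫
    z.app _ ≪≫ (Coh.push g).mapIso (KFlatLib.tensorUnitIso ((Scheme.Modules.pullback g).obj E))⟩

variable {D : Scheme.{u}} [D.Over (Spec (CommRingCat.of k))] [IsProper (D ↘ Spec (CommRingCat.of k))]
  [X.Over (Spec (CommRingCat.of k))] [IsProper (X ↘ Spec (CommRingCat.of k))] [IsIntegral X]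

/-- **Degrees of pullbacks along finite morphisms to an integral curve.** -/
theorem deg_pullback_eq (hdim : topologicalKrullDim X ≤ 1) (g : D ⟶ X) [IsFinite g]
    (hg : g ≫ (X ↘ Spec (CommRingCat.of k)) = D ↘ Spec (CommRingCat.of k))
    {L : X.Modules} (hL : PicF.IsInvertible L) :
    Curv2.deg k D ((Scheme.Modules.pullback g).obj L) 1 =
      CurveBundle.rk ((Coh.push g).obj (Coh.structureModule D)) * Curv2.deg k X L 1 := by
  haveI := CurveCohLib.isNoetherian_of_proper (k := k) (X := X)
  haveI := CurveCohLib.isNoetherian_of_proper (k := k) (X := D)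
  have hL1 := InvEnd.isFinLocFreeOfRank_one hL
  have hO : Coh.IsCoh ((Coh.push g).obj (Coh.structureModule D)) := QCoh.isCoh_pushforward_finite g QCoh.isCoh_structureModule'
  have h := psi_eq_rk_mul (CurvePsi.eulerPsi k hL1) hdim hO
  simp only [CurvePsi.eulerPsi] at h
  obtain ⟨e⟩ := nonempty_push_tensor g (fun y => let ⟨W, hy, he⟩ := hL1 y; ⟨W, 1, hy, he⟩)
  rw [Euler.euler_congr k e, Euler.euler_congr k (KFlatLib.tensorUnitIso L),
    ← euler_push k g hg (QCoh.isQCoh_pullback g (QCoh.isQCoh_of_isFinLocFree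
      fun y => let ⟨W, hy, he⟩ := hL1 y; ⟨W, 1, hy, he⟩)),
    ← euler_push k g hg QCoh.isQCoh_structureModule] at h
  unfold Curv2.deg
  exact h

include k in
/-- The generic rank of the direct image of the structure sheaf along a surjection is positive. -/
theorem rk_push_pos (g : D ⟶ X) [IsFinite g] [Surjective g] :
    0 < CurveBundle.rk ((Coh.push g).obj (Coh.structureModule D)) := by
  haveI := CurveCohLib.isNoetherian_of_proper (k := k) (X := X)
  haveI := CurveCohLib.isNoetherian_of_proper (k := k) (X := D)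
  refine Nat.pos_of_ne_zero fun h => ?_
  have hO : Coh.IsCoh ((Coh.push g).obj (Coh.structureModule D)) := QCoh.isCoh_pushforward_finite g QCoh.isCoh_structureModule'
  have hne := CurveBundle.support_ne_univ_of_rk hO h
  obtain ⟨x, hx⟩ := (Set.ne_univ_iff_exists_notMem _).1 hne
  obtain ⟨_, ⟨U, hU, rfl⟩, hxU, -⟩ :=
    X.isBasis_affineOpens.exists_subset_of_mem_open (Set.mem_univ x) isOpen_univ
  obtain ⟨f, hf, h1⟩ := (QCoh.notMem_support_iff hO.1 hU hxU).1 hx (1 : Γ(D, g ⁻¹ᵁ U))
  obtain ⟨d, hd⟩ := g.surjective x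
  have hdU : d ∈ g ⁻¹ᵁ U := show g d ∈ U from hd ▸ hxU
  have hdf : d ∈ D.basicOpen (g.app U f) := by
    rw [← Scheme.preimage_basicOpen g f]
    exact show g d ∈ X.basicOpen f from hd ▸ hf
  have h1' : g.app U f * 1 = 0 := h1
  rw [mul_one] at h1'
  rw [h1', Scheme.basicOpen_zero] at hdf
  exact hdf

end Field

end Groth.Agent.VarNef31
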