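import Groth.Agent.Lib.CurveTensor
import Groth.Agent.Lib.CurveSlope
import Groth.Agent.Lib.CurveDeg
import Groth.Agent.CurveCohLib.Proper
import Groth.Agent.InvX.Tensor

/-!
# Monomorphisms of tensor powers and global sections
-/

set_option linter.style.haveILetI false
set_option linter.unusedSectionVars false
set_option backward.isDefEq.respectTransparency false
set_option backward.isDefEq.respectTransparency.types false

universe u

open CategoryTheory CategoryTheory.Limits AlgebraicGeometry TopologicalSpace Opposite

namespace Groth.Agent.VarNef31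

variable {X : Scheme.{u}}

theorem finLocFree_of_inv {L : X.Modules} (hL : PicF.IsInvertible L) : FlatMod.IsFinLocFree L :=
  fun y => let ⟨W, hy, he⟩ := InvEnd.isFinLocFreeOfRank_one hL y; ⟨W, 1, hy, he⟩

/-- Tensoring on the left with a locally free module preserves monomorphisms. -/
theorem mono_tensor_left {E : X.Modules} (hE : FlatMod.IsFinLocFree E) {A B : X.Modules} (f : A ⟶ B) [Mono f] :
    Mono ((DCoh.tensorBi.obj E).map f) :=
  (CurveTensor.shortExact_tensor hE f _ _ (CurveSlope.shortExact_cokernel_of_mono f)).mono_f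

/-- A tensor product of monomorphisms of locally free modules. -/
theorem exists_mono_tensorMod {A A' B B' : X.Modules} (hA' : FlatMod.IsFinLocFree A')
    (hB : FlatMod.IsFinLocFree B) (f : A ⟶ A') (g : B ⟶ B') [Mono f] [Mono g] :
    ∃ h : CohB1.tensorMod A B ⟶ CohB1.tensorMod A' B', Mono h := by
  haveI := mono_tensor_left hB f
  haveI := mono_tensor_left hA' g
  exact ⟨(CurveTensor.commIso A B).hom ≫ (DCoh.tensorBi.obj B).map f ≫ (CurveTensor.commIso B A').hom ≫
    (DCoh.tensorBi.obj A').map g, inferInstance⟩

variable [IsIntegral X]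

/-- Multiplication by powers of a nonzero section. -/
theorem exists_mono_tensorPow {L E : X.Modules} (hL : PicF.IsInvertible L) (hE : PicF.IsInvertible E)
    (s : Coh.structureModule X ⟶ E) (hs : s ≠ 0) (m : ℕ) :
    ∃ h : CohB1.tensorPow L m ⟶ CohB1.tensorPow (CohB1.tensorMod L E) m, Mono h := by
  haveI : Mono s := InvEnd.mono_of_ne_zero CurveDeg.isInvertible_structureModule hE s hs
  have hLE := InvX.isInvertible_tensorMod hL hE
  haveI := mono_tensor_left (finLocFree_of_inv hL) s
  let g : L ⟶ CohB1.tensorMod L E := (KFlatLib.tensorUnitIso L).inv ≫ (DCoh.tensorBi.obj L).map s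
  haveI : Mono g := inferInstance
  induction m with
  | zero => exact ⟨𝟙 _, inferInstance⟩
  | succ m ih =>
    obtain ⟨h, hh⟩ := ih
    exact exists_mono_tensorMod (finLocFree_of_inv (InvX.isInvertible_tensorPow hLE m))
      (finLocFree_of_inv hL) h g

variable (k : Type u) [Field k] [X.Over (Spec (CommRingCat.of k))]
  [IsProper (X ↘ Spec (CommRingCat.of k))]

omit [IsIntegral X] in
/-- A monomorphism into a coherent module injects on sections. -/
theorem finrank_h0_le_of_mono {A B : X.Modules} (hB : Coh.IsCoh B) (f : A ⟶ B) [Mono f] :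
    Module.finrank k (Coh.HH X A 0) ≤ Module.finrank k (Coh.HH X B 0) := by
  haveI : Module.Finite k (Coh.HH X B 0) := CurveCohLib.finite_HH hB 0
  have h := Euler.ker_mapLin_f_zero (X := X) k (S := ShortComplex.mk f (cokernel.π f) (cokernel.condition f))
    (CurveSlope.shortExact_cokernel_of_mono f)
  exact LinearMap.finrank_le_finrank_of_injective (f := PnCoh.Finite.mapLin k f 0) (LinearMap.ker_eq_bot.1 h)

end Groth.Agent.VarNef31
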