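import Groth.Agent.CartierEq4.Basic
import Mathlib.RingTheory.Smooth.Field
import Mathlib.RingTheory.Smooth.StandardSmoothOfFree
import Mathlib.RingTheory.Etale.Kaehler
import Mathlib.LinearAlgebra.Dimension.Localization
import Mathlib.AlgebraicGeometry.Morphisms.Smooth
import Mathlib.AlgebraicGeometry.FunctionField
import Mathlib.FieldTheory.Perfect

/-!
# Generic smoothness of a given relative dimension in characteristic zero
-/

set_option autoImplicit false
set_option linter.style.haveILetI false

universe u

open CategoryTheory AlgebraicGeometry KaehlerDifferential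

namespace Groth.Agent.VarNef31

theorem exists_isStandardSmoothOfRelativeDimension (R S K L : Type u) [CommRing R] [CommRing S]
    [IsDomain S] [Field K] [Field L] [CharZero K] [Algebra R S] [Algebra.FinitePresentation R S]
    [Algebra R K] [IsFractionRing R K] [Algebra S L] [IsFractionRing S L] [Algebra K L] [Algebra R L]
    [IsScalarTower R K L] [IsScalarTower R S L] (n : ℕ) (hn : Algebra.trdeg K L = n) :
    ∃ g : S, g ≠ 0 ∧ Algebra.IsStandardSmoothOfRelativeDimension n R (Localization.Away g) := by
  haveI : Algebra.EssFiniteType S L := Algebra.EssFiniteType.of_isLocalization L (nonZeroDivisors S)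
  haveI : Algebra.EssFiniteType R L := Algebra.EssFiniteType.comp R S L
  haveI : Algebra.EssFiniteType K L := Algebra.EssFiniteType.of_comp R K L
  haveI : PerfectField K := PerfectField.ofCharZero
  haveI : Algebra.FormallySmooth K L := Algebra.FormallySmooth.of_perfectField
  haveI : Algebra.FormallySmooth R K := Algebra.FormallySmooth.of_isLocalization (nonZeroDivisors R)
  haveI : Algebra.FormallySmooth R L := Algebra.FormallySmooth.comp R K L
  haveI : (⊥ : Ideal S).IsPrime := Ideal.isPrime_bot
  haveI : IsLocalization (⊥ : Ideal S).primeCompl L := by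
    rw [Ideal.primeCompl_bot]; infer_instance
  haveI : Algebra.IsSmoothAt R (⊥ : Ideal S) := Algebra.FormallySmooth.of_equiv
    ((IsLocalization.algEquiv (⊥ : Ideal S).primeCompl (Localization.AtPrime (⊥ : Ideal S)) L).restrictScalars R).symm
  obtain ⟨g, hg, hstd⟩ := Algebra.IsSmoothAt.exists_notMem_isStandardSmooth R (⊥ : Ideal S)
  have hg0 : g ≠ 0 := fun h => hg (Ideal.mem_bot.2 h)
  refine ⟨g, hg0, ?_⟩
  haveI := hstd
  have hpow : Submonoid.powers g ≤ nonZeroDivisors S := powers_le_nonZeroDivisors_of_noZeroDivisors hg0
  haveI : IsDomain (Localization.Away g) := IsLocalization.isDomain_localization hpow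
  letI : Algebra (Localization.Away g) L :=
    (IsLocalization.lift (M := Submonoid.powers g) (g := algebraMap S L)
      (fun y => IsLocalization.map_units L (⟨y, hpow y.2⟩ : nonZeroDivisors S))).toAlgebra
  haveI : IsScalarTower S (Localization.Away g) L :=
    IsScalarTower.of_algebraMap_eq fun x => (IsLocalization.lift_eq _ x).symm
  haveI : IsScalarTower R (Localization.Away g) L := IsScalarTower.of_algebraMap_eq fun x => by
    rw [IsScalarTower.algebraMap_apply R S (Localization.Away g),
      ← IsScalarTower.algebraMap_apply S (Localization.Away g) L, ← IsScalarTower.algebraMap_apply R S L]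
  haveI : IsLocalization ((nonZeroDivisors S).map (algebraMap S (Localization.Away g))) L :=
    IsLocalization.isLocalization_of_submonoid_le _ L (Submonoid.powers g) (nonZeroDivisors S) hpow
  set M := (nonZeroDivisors S).map (algebraMap S (Localization.Away g)) with hM
  have hMnzd : M ≤ nonZeroDivisors (Localization.Away g) := by
    rintro _ ⟨s, hs, rfl⟩
    exact mem_nonZeroDivisors_of_ne_zero fun h => nonZeroDivisors.ne_zero hs
      (IsLocalization.injective (Localization.Away g) hpow (h.trans (map_zero _).symm))
  -- differentials
  haveI : Algebra.FormallyUnramified R K := Algebra.FormallyUnramified.of_isLocalization (nonZeroDivisors R)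
  have hinj : Function.Injective (KaehlerDifferential.map R K L L) := by
    rw [injective_iff_map_eq_zero]
    intro x hx
    obtain ⟨y, rfl⟩ := (KaehlerDifferential.exact_mapBaseChange_map R K L x).1 hx
    rw [Subsingleton.elim y 0, map_zero]
  let e : Ω[L⁄R] ≃ₗ[L] Ω[L⁄K] :=
    LinearEquiv.ofBijective (KaehlerDifferential.map R K L L) ⟨hinj, KaehlerDifferential.map_surjective R K L⟩
  obtain ⟨hfin, -, hrank⟩ := CartierEq4.finrank_kaehler_eq K L
  haveI := hfin
  haveI : Subsingleton (Algebra.H1Cotangent K L) := Algebra.FormallySmooth.subsingleton_h1Cotangent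
  rw [hn, Cardinal.toNat_natCast, Module.finrank_zero_of_subsingleton (M := Algebra.H1Cotangent K L),
    add_zero] at hrank
  have h1 : Module.rank L Ω[L⁄R] = (n : Cardinal) := by
    rw [e.rank_eq, ← Module.finrank_eq_rank, hrank]
  have h2 : Module.rank L Ω[L⁄R] = Module.rank (Localization.Away g) Ω[L⁄R] :=
    IsLocalization.rank_eq L M hMnzd
  have h3 : Module.rank (Localization.Away g) Ω[L⁄R] = Module.rank (Localization.Away g) Ω[(Localization.Away g)⁄R] :=
    IsLocalizedModule.rank_eq M hMnzd (KaehlerDifferential.map R R (Localization.Away g) L)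
  rw [Algebra.IsStandardSmoothOfRelativeDimension.iff_of_isStandardSmooth]
  rw [← h3, ← h2, h1]

end Groth.Agent.VarNef31
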