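import Groth.Agent.VarNef31.Nef
import Groth.Agent.H23.RedSub

/-!
# Nef invertible modules and curves mapping to a proper scheme
-/

set_option linter.style.haveILetI false
set_option linter.unusedSectionVars false
set_option backward.isDefEq.respectTransparency false
set_option backward.isDefEq.respectTransparency.types false

universe u

open CategoryTheory CategoryTheory.Limits AlgebraicGeometry TopologicalSpace Opposite
open Groth.Agent

namespace Groth.Agent.VarNef31

variable (k : Type u) [Field k]

/-- Nefness of an invertible module, tested on integral closed curves. -/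
def NefOn (X : Scheme.{u}) [X.Over (Spec (CommRingCat.of k))] (L : X.Modules) : Prop :=
  ∀ C : X.IdealSheafData, IsIntegral C.subscheme → topologicalKrullDim (C.support : Set X) = 1 →
    0 ≤ Curv2.euler k X (CohB1.tensorMod (ClSub.quotMod C) L) - Curv2.euler k X (ClSub.quotMod C)

theorem topologicalKrullDim_subscheme {X : Scheme.{u}} (C : X.IdealSheafData) :
    topologicalKrullDim C.subscheme = topologicalKrullDim (C.support : Set X) :=
  (IsHomeomorph.topologicalKrullDim_eq _
    C.subschemeι.isClosedEmbedding.isEmbedding.toHomeomorph.isHomeomorph).trans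
    (by rw [C.range_subschemeι])

variable {k} {X : Scheme.{u}} [X.Over (Spec (CommRingCat.of k))] [IsProper (X ↘ Spec (CommRingCat.of k))]

theorem deg_pullback_congr {D : Scheme.{u}} [D.Over (Spec (CommRingCat.of k))]
    [IsProper (D ↘ Spec (CommRingCat.of k))] {Y : Scheme.{u}}
    (g : D ⟶ Y) (f : Y ⟶ X) (h : D ⟶ X) (e : g ≫ f = h) (L : X.Modules) :
    Curv2.deg k D ((Scheme.Modules.pullback g).obj ((Scheme.Modules.pullback f).obj L)) 1 =
      Curv2.deg k D ((Scheme.Modules.pullback h).obj L) 1 :=
  deg_congr' k ((Scheme.Modules.pullbackComp g f).app L ≪≫ (Scheme.Modules.pullbackCongr e).app L)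

/-- **A nef module has nonnegative degree on every curve mapping to the scheme.** -/
theorem deg_nonneg_of_nefOn {L : X.Modules} (hL : PicF.IsInvertible L) (hnef : NefOn k X L)
    {D : Scheme.{u}} [D.Over (Spec (CommRingCat.of k))] [IsProper (D ↘ Spec (CommRingCat.of k))]
    [IsIntegral D] (hdim : topologicalKrullDim D = 1) (h : D ⟶ X)
    (hh : h ≫ (X ↘ Spec (CommRingCat.of k)) = D ↘ Spec (CommRingCat.of k)) :
    0 ≤ Curv2.deg k D ((Scheme.Modules.pullback h).obj L) 1 := by
  set pX := X ↘ Spec (CommRingCat.of k)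
  set pD := D ↘ Spec (CommRingCat.of k)
  haveI : IsProper h := by
    haveI : IsProper (h ≫ pX) := hh ▸ inferInstance
    exact IsProper.of_comp h pX
  have hD : VarDim.deg pD (genericPoint D) = 1 := by
    rw [VarDim.topologicalKrullDim_eq_deg_genericPoint pD] at hdim
    exact_mod_cast hdim
  let ξ : X := h (genericPoint D)
  have hrange : Set.range h ⊆ closure {ξ} := by
    rintro _ ⟨d, rfl⟩
    exact specializes_iff_mem_closure.1 ((genericPoint_specializes d).map h.continuous)
  have hξ : VarDim.deg pX ξ ≤ 1 := hD ▸ VarDim.deg_map_le h pX hh (genericPoint D)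
  rcases Nat.le_one_iff_eq_zero_or_eq_one.1 hξ with h0 | h1
  · have hcl : IsClosed ({ξ} : Set X) := (VarDim.closedPoint_iff_deg_eq_zero pX ξ).2 h0
    obtain ⟨U, hξU, ⟨e⟩⟩ := hL ξ
    have hsub : Set.range h ⊆ Set.range U.ι := by
      rw [Scheme.Opens.range_ι]
      refine hrange.trans ?_
      rw [hcl.closure_eq]
      exact Set.singleton_subset_iff.2 hξU
    let l := IsOpenImmersion.lift U.ι h hsub
    obtain ⟨eO⟩ := PicClLib.nonempty_pullback_structureModule l
    rw [← deg_pullback_congr l U.ι h (IsOpenImmersion.lift_fac _ _ _) L,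
      deg_congr' k ((Scheme.Modules.pullback l).mapIso
        (((Scheme.Modules.restrictFunctorIsoPullback U.ι).app L).symm ≪≫ e) ≪≫ eO)]
    simp [Curv2.deg]
  · let C := Scheme.IdealSheafData.vanishingIdeal (Closeds.closure {ξ})
    have hr : Set.range C.subschemeι = closure {ξ} := H23.RedSub.range_vanishingIdeal _
    haveI : IsIntegral C.subscheme := QCoh.isIntegral_closure_point ξ
    obtain ⟨g, hg⟩ := H23.RedSub.exists_lift_closed h C.subschemeι (hrange.trans hr.ge)
    letI : C.subscheme.Over (Spec (CommRingCat.of k)) := ⟨C.subschemeι ≫ pX⟩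
    haveI : IsProper (C.subscheme ↘ Spec (CommRingCat.of k)) :=
      inferInstanceAs (IsProper (C.subschemeι ≫ pX))
    have hdC : topologicalKrullDim (C.support : Set X) = 1 := by
      show topologicalKrullDim (closure ({ξ} : Set X)) = 1
      rw [VarDim.topologicalKrullDim_closure_singleton pX ξ, h1]
      rfl
    have hgp : g ≫ (C.subscheme ↘ Spec (CommRingCat.of k)) = pD := by
      show g ≫ C.subschemeι ≫ pX = pD
      rw [← Category.assoc, hg, hh]
    have hη : g (genericPoint D) = genericPoint C.subscheme := by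
      refine (IsGenericPoint.eq ?_ (genericPoint_spec C.subscheme))
      refine isGenericPoint_def.2 (Set.univ_subset_iff.1 fun c _ => ?_)
      rw [C.subschemeι.isClosedEmbedding.isInducing.closure_eq_preimage_closure_image, Set.image_singleton]
      show C.subschemeι c ∈ closure {C.subschemeι (g (genericPoint D))}
      rw [← Scheme.Hom.comp_apply, hg]
      exact hr ▸ Set.mem_range_self c
    have hdC' : topologicalKrullDim C.subscheme = 1 := (topologicalKrullDim_subscheme C).trans hdC
    obtain ⟨hfin, -⟩ := isFinite_and_surjective pD (C.subscheme ↘ Spec (CommRingCat.of k)) g hgp hD (by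
      rw [VarDim.topologicalKrullDim_eq_deg_genericPoint (C.subscheme ↘ Spec (CommRingCat.of k))] at hdC'
      exact_mod_cast hdC') hη
    rw [← deg_pullback_congr g C.subschemeι h hg L,
      deg_pullback_eq k hdC'.le g hgp (PicClLib.isInvertible_pullback _ hL)]
    have h2 := hnef C inferInstance hdC
    rw [euler_quot_eq_deg k C hL rfl] at h2
    exact mul_nonneg (Nat.cast_nonneg _) h2

/-- Degrees on closed curves control nefness. -/
theorem nefOn_of_deg_nonneg {L : X.Modules} (hL : PicF.IsInvertible L)
    (h : ∀ (C : Scheme.{u}) [C.Over (Spec (CommRingCat.of k))] [IsProper (C ↘ Spec (CommRingCat.of k))]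
      [IsIntegral C], topologicalKrullDim C = 1 → ∀ g : C ⟶ X,
        g ≫ (X ↘ Spec (CommRingCat.of k)) = C ↘ Spec (CommRingCat.of k) →
          0 ≤ Curv2.deg k C ((Scheme.Modules.pullback g).obj L) 1) :
    NefOn k X L := fun C hC hd => by
  letI : C.subscheme.Over (Spec (CommRingCat.of k)) := ⟨C.subschemeι ≫ (X ↘ Spec (CommRingCat.of k))⟩
  haveI : IsProper (C.subscheme ↘ Spec (CommRingCat.of k)) :=
    inferInstanceAs (IsProper (C.subschemeι ≫ (X ↘ Spec (CommRingCat.of k))))
  rw [euler_quot_eq_deg k C hL rfl]
  exact h _ ((topologicalKrullDim_subscheme C).trans hd) _ rfl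

/-- **Nefness and surjective morphisms.** -/
theorem nefOn_pullback_iff {Y : Scheme.{u}} [Y.Over (Spec (CommRingCat.of k))]
    [IsProper (Y ↘ Spec (CommRingCat.of k))] (f : Y ⟶ X)
    (hf : f ≫ (X ↘ Spec (CommRingCat.of k)) = Y ↘ Spec (CommRingCat.of k)) [Surjective f]
    {L : X.Modules} (hL : PicF.IsInvertible L) :
    NefOn k X L ↔ NefOn k Y ((Scheme.Modules.pullback f).obj L) := by
  have hLY := PicClLib.isInvertible_pullback f hL
  refine ⟨fun hn => nefOn_of_deg_nonneg hLY fun C _ _ _ hd g hg => ?_,
    fun hn => nefOn_of_deg_nonneg hL fun C _ _ _ hd g hg => ?_⟩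
  · rw [deg_pullback_congr g f (g ≫ f) rfl L]
    exact deg_nonneg_of_nefOn hL hn hd (g ≫ f) (by rw [Category.assoc, hf, hg])
  · haveI : IsProper f := by
      haveI : IsProper (f ≫ (X ↘ Spec (CommRingCat.of k))) := hf ▸ inferInstance
      exact IsProper.of_comp f (X ↘ Spec (CommRingCat.of k))
    letI : (pullback g f).Over (Spec (CommRingCat.of k)) :=
      ⟨pullback.fst g f ≫ (C ↘ Spec (CommRingCat.of k))⟩
    haveI : IsProper ((pullback g f) ↘ Spec (CommRingCat.of k)) :=
      inferInstanceAs (IsProper (pullback.fst g f ≫ (C ↘ Spec (CommRingCat.of k))))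
    refine deg_nonneg_of_cover k (pullback.fst g f) rfl hd (PicClLib.isInvertible_pullback g hL)
      fun D _ _ _ hdD _ l hl => ?_
    have e : (l ≫ pullback.fst g f) ≫ g = (l ≫ pullback.snd g f) ≫ f := by
      simp only [Category.assoc, pullback.condition]
    rw [deg_pullback_congr _ g _ e L, ← deg_pullback_congr (l ≫ pullback.snd g f) f _ rfl L]
    refine deg_nonneg_of_nefOn hLY hn hdD _ ?_
    rw [← hf, ← Category.assoc, ← e, Category.assoc, hg, Category.assoc]
    exact hl

end Groth.Agent.VarNef31
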