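import Groth.Agent.Lib.CurveDeg
import Groth.Agent.Lib.CurveBundle
import Groth.Agent.Lib.CurveSlope
import Groth.Agent.Lib.CurveDualPrep
import Groth.Agent.DimFormula.DedekindFlat
import Groth.Agent.SchTop.Closed
import Groth.Agent.ZClosLib.CohDescent

/-!
# Invertible modules on regular curves
-/

set_option linter.style.haveILetI false
set_option linter.unusedSectionVars false
set_option backward.isDefEq.respectTransparency false
set_option backward.isDefEq.respectTransparency.types false

universe u

open CategoryTheory CategoryTheory.Limits AlgebraicGeometry TopologicalSpace Opposite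

namespace Groth.Agent.VarNef31

variable (k : Type u) [Field k] {C : Scheme.{u}} [C.Over (Spec (CommRingCat.of k))]
  [IsProper (C ↘ Spec (CommRingCat.of k))] [IsIntegral C]

include k in
/-- A nonzero coherent submodule of an invertible module on a regular curve is invertible. -/
theorem isInvertible_of_mono (hdim : topologicalKrullDim C ≤ 1)
    (hreg : ∀ x : C, IsRegularLocalRing (C.presheaf.stalk x)) {K M : C.Modules}
    (hK : Coh.IsCoh K) (hM : PicF.IsInvertible M) (i : K ⟶ M) [Mono i] (h0 : i ≠ 0) :
    PicF.IsInvertible K := by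
  haveI := LocallyOfFiniteType.isLocallyNoetherian (C ↘ Spec (CommRingCat.of k))
  have hM1 := InvEnd.isFinLocFreeOfRank_one hM
  have hMf : FlatMod.IsFinLocFree M := fun y => let ⟨W, hy, he⟩ := hM1 y; ⟨W, 1, hy, he⟩
  have hKf : FlatMod.IsFinLocFree K := by
    refine QCoh.isFinLocFree_iff.2 ⟨QCoh.isCoh_iff_isFP.1 hK, fun x => ?_⟩
    haveI := hreg x
    haveI : IsPrincipalIdealRing (C.presheaf.stalk x) :=
      DimFormula.isPrincipalIdealRing_of_regular_dim_le_one
        ((SchTop.ringKrullDim_stalk_le x).trans hdim)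
    exact CurveBundle.free_stalk_of_mono i hMf x
  have hle : CurveBundle.rk K ≤ 1 := by
    rw [← CurveBundle.rk_eq hM1]
    haveI := CurveBundle.finite_stalk_of_coh (CurveDeg.isCoh_of_isInvertible hM) (genericPoint C)
    letI := (CurveBundle.isField_stalk_generic (X := C)).toField
    exact LinearMap.finrank_le_finrank_of_injective (CurveBundle.stalkMap_injective i (genericPoint C))
  rcases Nat.le_one_iff_eq_zero_or_eq_one.1 hle with h | h
  · exact absurd ((CurveBundle.isZero_of_rk_zero hKf h).eq_of_src i 0) h0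
  · exact CurveDuality.isInvertible_of_rank_one (h ▸ CurveBundle.isFinLocFreeOfRank_rk hKf)

/-- On a regular curve: nonnegativity of the degrees of invertible quotients passes to extensions. -/
theorem deg_nonneg_of_exact (hdim : topologicalKrullDim C ≤ 1)
    (hreg : ∀ x : C, IsRegularLocalRing (C.presheaf.stalk x)) {A B D : C.Modules}
    (hA : Coh.IsCoh A) (a : A ⟶ B) (b : B ⟶ D) (w : a ≫ b = 0)
    (hc : IsColimit (CokernelCofork.ofπ b w))
    (h₁ : ∀ M : C.Modules, PicF.IsInvertible M → ∀ q : A ⟶ M, Epi q → 0 ≤ Curv2.deg k C M 1)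
    (h₃ : ∀ M : C.Modules, PicF.IsInvertible M → ∀ q : D ⟶ M, Epi q → 0 ≤ Curv2.deg k C M 1)
    {M : C.Modules} (hM : PicF.IsInvertible M) (q : B ⟶ M) [Epi q] :
    0 ≤ Curv2.deg k C M 1 := by
  haveI := LocallyOfFiniteType.isLocallyNoetherian (C ↘ Spec (CommRingCat.of k))
  by_cases h : a ≫ q = 0
  · obtain ⟨q', hq'⟩ := CokernelCofork.IsColimit.desc' hc q h
    haveI : Epi (b ≫ q') := by
      rw [show b ≫ q' = q from hq']; infer_instance
    exact h₃ M hM q' (epi_of_epi b q')
  · obtain ⟨I, π, j, hj, hfac, -, hI, hπ, -⟩ :=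
      CurveSlope.exists_factor hA (CurveDeg.isCoh_of_isInvertible hM) (a ≫ q)
    haveI := hj
    have hj0 : j ≠ 0 := fun hz => h (by rw [← hfac, hz, comp_zero])
    have hIi := isInvertible_of_mono k hdim hreg hI hM j hj0
    exact (h₁ I hIi π hπ).trans (CurveDeg.deg_le_and_isIso k hdim hIi hM j hj0).1

end Groth.Agent.VarNef31
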