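import Groth.Agent.VarDim.Fibre
import Groth.Agent.VarDim.Top
import Groth.Agent.QCoh.Devissage
import Groth.Agent.SchTop.Closed
import Groth.Agent.S1585
import Groth.Agent.S9280
import Groth.Agent.CurveCohLib.Proper
import Mathlib.AlgebraicGeometry.ZariskisMainTheorem

/-!
# Regular curves lying over a given curve
-/

set_option linter.style.haveILetI false
set_option backward.isDefEq.respectTransparency false
set_option backward.isDefEq.respectTransparency.types false

universe u

open CategoryTheory CategoryTheory.Limits AlgebraicGeometry TopologicalSpace Opposite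
open Groth.Agent

namespace Groth.Agent.VarNef31

variable {k : Type u} [Field k]

/-- All points of relative transcendence degree zero: quasi-finite. -/
theorem locallyQuasiFinite_of_fdeg_eq_zero {D C : Scheme.{u}} (g : D ⟶ C) [LocallyOfFiniteType g]
    [QuasiCompact g] (h : ∀ d : D, VarDim.fdeg g d = 0) : LocallyQuasiFinite g := by
  rw [locallyQuasiFinite_iff_isDiscrete_preimage_singleton]
  intro c
  haveI : IsLocallyNoetherian (g.fiber c) :=
    LocallyOfFiniteType.isLocallyNoetherian (g.fiberToSpecResidueField c)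
  haveI : IsNoetherian (g.fiber c) := { }
  have hdim : topologicalKrullDim (g.fiber c) ≤ 0 := by
    rw [VarDim.topologicalKrullDim_fiber g c]
    exact iSup_le fun x => by rw [h x.1]; rfl
  haveI : DiscreteTopology (g.fiber c) :=
    discreteTopology_iff_isOpen_singleton.2 fun x => SchTop.isOpen_singleton_of_dim_le_zero hdim x
  haveI : DiscreteTopology (g ⁻¹' {c} : Set D) := (g.fiberHomeo c).symm.isEmbedding.discreteTopology
  exact ⟨inferInstance⟩

/-- A dominant morphism between proper integral curves is finite and surjective. -/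
theorem isFinite_and_surjective {D C : Scheme.{u}} [IsIntegral D] [IsIntegral C]
    (pD : D ⟶ Spec (CommRingCat.of k)) (pC : C ⟶ Spec (CommRingCat.of k)) [IsProper pD] [IsProper pC]
    (g : D ⟶ C) (hg : g ≫ pC = pD) (hD : VarDim.deg pD (genericPoint D) = 1)
    (hC : VarDim.deg pC (genericPoint C) = 1) (hη : g (genericPoint D) = genericPoint C) :
    IsFinite g ∧ Surjective g := by
  haveI : IsProper (g ≫ pC) := hg ▸ inferInstance
  haveI : IsProper g := IsProper.of_comp g pC
  have h0 : ∀ d : D, VarDim.fdeg g d = 0 := fun d => by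
    have h1 := VarDim.deg_eq_add g pC hg d
    rcases eq_or_ne d (genericPoint D) with rfl | hne
    · rw [hη, hD, hC] at h1
      omega
    · have h2 := VarDim.deg_le_of_specializes pD (genericPoint_specializes d)
      by_contra h3
      have h4 : VarDim.deg pD (genericPoint D) ≤ VarDim.deg pD d := by omega
      exact hne (VarDim.eq_of_specializes_of_deg_le pD (genericPoint_specializes d) h4).symm
  haveI := locallyQuasiFinite_of_fdeg_eq_zero g h0
  refine ⟨IsFinite.of_isProper_of_locallyQuasiFinite g, ⟨fun c => ?_⟩⟩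
  exact (genericPoint_specializes c).mem_closed g.isClosedMap.isClosed_range ⟨genericPoint D, hη⟩

/-- The normalization of a proper integral curve. -/
theorem exists_normalization {Z : Scheme.{u}} [Z.Over (Spec (CommRingCat.of k))] [IsIntegral Z]
    [IsProper (Z ↘ Spec (CommRingCat.of k))]
    (hZ : VarDim.deg (Z ↘ Spec (CommRingCat.of k)) (genericPoint Z) = 1) :
    ∃ (D : Scheme.{u}) (_ : IsIntegral D) (ν : D ⟶ Z),
      IsProper (ν ≫ (Z ↘ Spec (CommRingCat.of k))) ∧
      VarDim.deg (ν ≫ (Z ↘ Spec (CommRingCat.of k))) (genericPoint D) = 1 ∧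
      ν (genericPoint D) = genericPoint Z ∧ ∀ x : D, IsRegularLocalRing (D.presheaf.stalk x) := by
  set pZ := Z ↘ Spec (CommRingCat.of k) with hpZ
  haveI : CompactSpace Z := QuasiCompact.compactSpace_of_compactSpace pZ
  haveI : IsLocallyNoetherian Z := LocallyOfFiniteType.isLocallyNoetherian pZ
  haveI : IsNoetherian Z := { }
  obtain ⟨hfin, hdom, -, hint, hnor⟩ := S1585.result k Z
  let ν := Curv2.normalizationι Z
  haveI := hfin; haveI := hint; haveI := hdom
  haveI : IsProper (ν ≫ pZ) := inferInstance
  let η := genericPoint (Curv2.normalization Z)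
  have hη : ν η = genericPoint Z := by
    have hd : DenseRange ν := hdom.denseRange
    have h1 : closure ({ν η} : Set Z) = Set.univ := by
      rw [← Set.univ_subset_iff, ← hd.closure_range]
      refine closure_minimal ?_ isClosed_closure
      rintro _ ⟨x, rfl⟩
      exact specializes_iff_mem_closure.1 ((genericPoint_specializes x).map ν.continuous)
    exact (isGenericPoint_def.2 h1).eq (genericPoint_spec Z)
  have h0 : VarDim.fdeg ν η = 0 := by
    have hdim : topologicalKrullDim (ν ⁻¹' {ν η}) ≤ 0 := by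
      haveI : DiscreteTopology (ν ⁻¹' {ν η} : Set (Curv2.normalization Z)) :=
        (ν.isDiscrete_preimage_singleton (ν η)).1
      exact topologicalKrullDim_zero_of_discreteTopology _
    rw [VarDim.topologicalKrullDim_preimage_singleton] at hdim
    have h2 := (le_iSup (fun x : ν ⁻¹' {ν η} => ((VarDim.fdeg ν x.1 : ℕ∞) : WithBot ℕ∞)) ⟨η, rfl⟩).trans hdim
    exact Nat.le_zero.1 (by exact_mod_cast h2)
  have hdeg : VarDim.deg (ν ≫ pZ) η = 1 := by rw [VarDim.deg_eq_add ν pZ rfl η, hη, hZ, h0]
  refine ⟨_, hint, ν, inferInstance, hdeg, hη, fun x => ?_⟩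
  haveI := LocallyOfFiniteType.isLocallyNoetherian (ν ≫ pZ)
  haveI := (hnor x).1; haveI := (hnor x).2
  haveI : Ring.KrullDimLE 1 ((Curv2.normalization Z).presheaf.stalk x) := by
    rw [Ring.krullDimLE_iff]
    refine (SchTop.ringKrullDim_stalk_le x).trans ?_
    rw [VarDim.topologicalKrullDim_eq_deg_genericPoint (ν ≫ pZ), hdeg]
    rfl
  haveI : Ring.DimensionLEOne ((Curv2.normalization Z).presheaf.stalk x) :=
    ⟨fun {p} hp0 hp => hp.isMaximal_of_ne_bot hp0⟩
  exact S9280.isRegularLocalRing_of_dimensionLEOne _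

/-- **A regular curve in `W` finite and surjective over the curve `C`.** -/
theorem exists_regular_curve_onto {W C : Scheme.{u}} [W.Over (Spec (CommRingCat.of k))]
    [C.Over (Spec (CommRingCat.of k))] [IsProper (W ↘ Spec (CommRingCat.of k))]
    [IsProper (C ↘ Spec (CommRingCat.of k))] [IsIntegral C] (p : W ⟶ C) [Surjective p]
    (hp : p ≫ (C ↘ Spec (CommRingCat.of k)) = W ↘ Spec (CommRingCat.of k))
    (hdim : topologicalKrullDim C = 1) :
    ∃ (D : Scheme.{u}) (_ : D.Over (Spec (CommRingCat.of k))) (_ : IsProper (D ↘ Spec (CommRingCat.of k)))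
      (_ : IsIntegral D) (h : D ⟶ W),
      h ≫ (W ↘ Spec (CommRingCat.of k)) = D ↘ Spec (CommRingCat.of k) ∧ topologicalKrullDim D = 1 ∧
      (∀ x : D, IsRegularLocalRing (D.presheaf.stalk x)) ∧ IsFinite (h ≫ p) ∧ Surjective (h ≫ p) := by
  set pC := C ↘ Spec (CommRingCat.of k)
  set pW := W ↘ Spec (CommRingCat.of k)
  have hC : VarDim.deg pC (genericPoint C) = 1 := by
    rw [VarDim.topologicalKrullDim_eq_deg_genericPoint pC] at hdim
    exact_mod_cast hdim
  haveI : IsProper p := by
    haveI : IsProper (p ≫ pC) := hp ▸ inferInstance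
    exact IsProper.of_comp p pC
  obtain ⟨y, hy, hy0⟩ := VarDim.exists_fdeg_eq_zero p (p.surjective (genericPoint C))
  have hy1 : VarDim.deg pW y = 1 := by rw [VarDim.deg_eq_add p pC hp y, hy, hy0, hC]
  let J := Scheme.IdealSheafData.vanishingIdeal (Closeds.closure {y})
  haveI : IsIntegral J.subscheme := QCoh.isIntegral_closure_point y
  letI : J.subscheme.Over (Spec (CommRingCat.of k)) := ⟨J.subschemeι ≫ pW⟩
  haveI : IsProper (J.subscheme ↘ Spec (CommRingCat.of k)) :=
    inferInstanceAs (IsProper (J.subschemeι ≫ pW))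
  have hgen : J.subschemeι (genericPoint J.subscheme) = y := by
    have h1 : closure ({J.subschemeι (genericPoint J.subscheme)} : Set W) = closure {y} := by
      rw [← Set.image_singleton, J.subschemeι.isClosedEmbedding.isClosedMap.closure_image_eq_of_continuous
        J.subschemeι.continuous, genericPoint_closure, Set.image_univ, J.range_subschemeι]
      rfl
    exact (inseparable_iff_closure_eq.2 h1).eq
  have hZ : VarDim.deg (J.subscheme ↘ Spec (CommRingCat.of k)) (genericPoint J.subscheme) = 1 := by
    rw [VarDim.deg_eq_add J.subschemeι pW (p := J.subscheme ↘ Spec (CommRingCat.of k)) rfl, hgen, hy1, VarDim.fdeg, VarDim.rdeg_preimmersion, map_zero]; rfl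
  obtain ⟨D, hD, ν, hν', hdeg, hνη, hreg⟩ := exists_normalization hZ
  letI : D.Over (Spec (CommRingCat.of k)) := ⟨ν ≫ J.subschemeι ≫ pW⟩
  haveI hν : IsProper (ν ≫ J.subschemeι ≫ pW) := hν'

  have hfac : (ν ≫ J.subschemeι ≫ p) ≫ pC = ν ≫ J.subschemeι ≫ pW := by
    simp only [Category.assoc]; rw [hp]
  obtain ⟨hfin, hsur⟩ := isFinite_and_surjective (ν ≫ J.subschemeι ≫ pW) pC (ν ≫ J.subschemeι ≫ p) hfac
    hdeg hC (by
      show p (J.subschemeι (ν (genericPoint D))) = _
      rw [hνη, hgen, hy])
  refine ⟨D, inferInstance, hν, hD, ν ≫ J.subschemeι, (Category.assoc _ _ _), ?_, hreg, ?_, ?_⟩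
  · rw [VarDim.topologicalKrullDim_eq_deg_genericPoint (ν ≫ J.subschemeι ≫ pW)]
    exact_mod_cast congrArg (fun n : ℕ => ((n : ℕ∞) : WithBot ℕ∞)) hdeg
  · rw [Category.assoc]; exact hfin
  · rw [Category.assoc]; exact hsur

end Groth.Agent.VarNef31
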