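import Groth.Agent.VarNef31.DegPush
import Groth.Agent.VarNef31.CurveOnto

/-!
# Degrees of invertible modules on curves mapping to a scheme
-/

set_option linter.style.haveILetI false
set_option linter.unusedSectionVars false
set_option backward.isDefEq.respectTransparency false
set_option backward.isDefEq.respectTransparency.types false

universe u

open CategoryTheory CategoryTheory.Limits AlgebraicGeometry TopologicalSpace Opposite
open Groth.Agent

namespace Groth.Agent.VarNef31

variable (k : Type u) [Field k]

theorem deg_congr' {X : Scheme.{u}} [X.Over (Spec (CommRingCat.of k))]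
    [IsProper (X ↘ Spec (CommRingCat.of k))] {L M : X.Modules} (φ : L ≅ M) :
    Curv2.deg k X L 1 = Curv2.deg k X M 1 := by
  unfold Curv2.deg
  rw [Euler.euler_congr k φ]

/-- Pullback preserves epimorphisms. -/
theorem epi_pullback {X Y : Scheme.{u}} (f : X ⟶ Y) {A B : Y.Modules} (q : A ⟶ B) [Epi q] :
    Epi ((Scheme.Modules.pullback f).map q) := by
  haveI := (Scheme.Modules.pullbackPushforwardAdjunction f).leftAdjoint_preservesColimits
  infer_instance

/-- The degree is nonnegative if it is so on regular curves in a covering. -/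
theorem deg_nonneg_of_cover {W C : Scheme.{u}} [W.Over (Spec (CommRingCat.of k))]
    [C.Over (Spec (CommRingCat.of k))] [IsProper (W ↘ Spec (CommRingCat.of k))]
    [IsProper (C ↘ Spec (CommRingCat.of k))] [IsIntegral C] (p : W ⟶ C) [Surjective p]
    (hp : p ≫ (C ↘ Spec (CommRingCat.of k)) = W ↘ Spec (CommRingCat.of k))
    (hdim : topologicalKrullDim C = 1) {M : C.Modules} (hM : PicF.IsInvertible M)
    (h : ∀ (D : Scheme.{u}) [D.Over (Spec (CommRingCat.of k))] [IsProper (D ↘ Spec (CommRingCat.of k))]
      [IsIntegral D], topologicalKrullDim D = 1 → (∀ x : D, IsRegularLocalRing (D.presheaf.stalk x)) →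
      ∀ g : D ⟶ W, g ≫ (W ↘ Spec (CommRingCat.of k)) = D ↘ Spec (CommRingCat.of k) →
        0 ≤ Curv2.deg k D ((Scheme.Modules.pullback (g ≫ p)).obj M) 1) :
    0 ≤ Curv2.deg k C M 1 := by
  obtain ⟨D, hDo, hDp, hDi, g, hg, hdimD, hreg, hfin, hsur⟩ := exists_regular_curve_onto p hp hdim
  haveI := hDp; haveI := hDi; haveI := hfin; haveI := hsur
  have h1 := h D hdimD hreg g hg
  rw [deg_pullback_eq k hdim.le (g ≫ p) (by rw [Category.assoc, hp, hg]) hM] at h1
  have h2 : (0 : ℤ) < CurveBundle.rk ((Coh.push (g ≫ p)).obj (Coh.structureModule D)) := by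
    exact_mod_cast rk_push_pos k (g ≫ p)
  exact nonneg_of_mul_nonneg_right h1 h2

/-- The intersection number of an invertible module with a closed subscheme is a degree. -/
theorem euler_quot_eq_deg {X : Scheme.{u}} [X.Over (Spec (CommRingCat.of k))]
    [IsProper (X ↘ Spec (CommRingCat.of k))] (I : X.IdealSheafData) {L : X.Modules} (hL : PicF.IsInvertible L)
    [I.subscheme.Over (Spec (CommRingCat.of k))]
    (hI : I.subschemeι ≫ (X ↘ Spec (CommRingCat.of k)) = I.subscheme ↘ Spec (CommRingCat.of k)) :
    Curv2.euler k X (CohB1.tensorMod (ClSub.quotMod I) L) - Curv2.euler k X (ClSub.quotMod I) =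
      Curv2.deg k I.subscheme ((Scheme.Modules.pullback I.subschemeι).obj L) 1 := by
  have hLf : FlatMod.IsFinLocFree L := fun y =>
    let ⟨W, hy, he⟩ := InvEnd.isFinLocFreeOfRank_one hL y; ⟨W, 1, hy, he⟩
  obtain ⟨e⟩ := nonempty_push_tensor I.subschemeι hLf
  have h1 : Curv2.euler k X (CohB1.tensorMod (ClSub.quotMod I) L) =
      Curv2.euler k X ((DCoh.tensorBi.obj L).obj ((Coh.push I.subschemeι).obj
        (Coh.structureModule I.subscheme))) :=
    Euler.euler_congr k (CurveTensor.commIso (ClSub.quotMod I) L)
  have h2 : Curv2.euler k X ((DCoh.tensorBi.obj L).obj ((Coh.push I.subschemeι).obj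
        (Coh.structureModule I.subscheme))) =
      Curv2.euler k I.subscheme ((Scheme.Modules.pullback I.subschemeι).obj L) :=
    (Euler.euler_congr k e).trans
      (euler_push k I.subschemeι hI (QCoh.isQCoh_pullback _ (QCoh.isQCoh_of_isFinLocFree hLf))).symm
  have h3 : Curv2.euler k X (ClSub.quotMod I) =
      Curv2.euler k I.subscheme (Coh.structureModule I.subscheme) :=
    (euler_push k I.subschemeι hI (QCoh.isQCoh_structureModule (X := I.subscheme))).symm
  unfold Curv2.deg
  rw [Nat.cast_one, one_mul, h1, h2, h3]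

end Groth.Agent.VarNef31
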