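import Groth.Agent.AmpleX.Comp

/-!
# Pullbacks of ample modules along affine morphisms
-/

universe u

open CategoryTheory AlgebraicGeometry

namespace Groth.Agent.VarNef31

/-- An affine morphism is quasi-affine. -/
theorem isQuasiAffine_of_isAffineHom {X Y : Scheme.{u}} (f : X ⟶ Y) [IsAffineHom f] :
    Mor2.IsQuasiAffine f :=
  ⟨inferInstance, fun V hV => by
    haveI : IsAffine (f ⁻¹ᵁ V : Scheme.{u}) := IsAffineHom.isAffine_preimage V hV
    infer_instance⟩

/-- The pullback of an ample module along an affine morphism is ample. -/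
theorem isAmple_pullback_of_isAffineHom {X Y S : Scheme.{u}} [IsAffine S] (π : X ⟶ Y) [IsAffineHom π]
    (g : Y ⟶ S) [QuasiCompact g] {L : Y.Modules} (hL : CohB1.IsAmple L) :
    CohB1.IsAmple ((Scheme.Modules.pullback π).obj L) :=
  (AmpleX.isRelAmple_iff_isAmple (π ≫ g) _).1
    (AmpleX.isRelAmple_pullback_quasiAffine g π (isQuasiAffine_of_isAffineHom π)
      ((AmpleX.isRelAmple_iff_isAmple g L).2 hL))

end Groth.Agent.VarNef31
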